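import Groth.Agent.GabberPairLib.Main
import Groth.Agent.CompBCLib.Torsion
import Groth.Agent.PBCLib.Final

/-!
# Cohomology of torsion sheaves on schemes proper over henselian pairs

Proper base change reduces the comparison with the special part to the affine case.
-/

set_option autoImplicit false
set_option linter.style.haveILetI false
set_option backward.isDefEq.respectTransparency false
set_option backward.isDefEq.respectTransparency.types false
set_option maxHeartbeats 1000000

universe u

open CategoryTheory CategoryTheory.Limits AlgebraicGeometry Opposite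

attribute [local instance] Groth.Agent.S0101.result

noncomputable section

namespace Groth.Agent.CoupleBaseLib

/-- Torsion cohomology of a proper scheme over a henselian pair is that of its special part. -/
theorem bijective_unit {A : Type u} [CommRing A] (I : Ideal A) [HenselianRing A I] {X X₀ : Scheme.{u}}
    (f : X ⟶ Spec (CommRingCat.of A)) [IsProper f] (i : X₀ ⟶ X)
    (t : X₀ ⟶ Spec (CommRingCat.of (A ⧸ I))) (h : IsPullback i t f (GabberPairLib.quotMap A I))
    {F : EtCoh.Ab X} (hF : EtCoh.IsTorsion F) (q : ℕ) :
    Function.Bijective (Sheaf.H.map ((EtCoh.pullPushAdj i).unit.app F) q) := by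
  haveI : IsClosedImmersion i := MorphismProperty.of_isPullback h.flip (inferInstance : IsClosedImmersion (GabberPairLib.quotMap A I))
  haveI : CompactSpace ↥X := QuasiCompact.compactSpace_of_compactSpace f
  haveI : QuasiSeparatedSpace ↥X := quasiSeparatedSpace_of_quasiSeparated f
  haveI : CompactSpace ↥X₀ := QuasiCompact.compactSpace_of_compactSpace i
  haveI : QuasiSeparatedSpace ↥X₀ := quasiSeparatedSpace_of_quasiSeparated i
  have hj : EtAcyc.CompN (GabberPairLib.quotMap A I) Set.univ q := fun G hG _ =>
    ⟨fun r _ => GabberPairLib.bijective_Hpull A I r G (RpushTorsLib.isTorsion_of_isLTorsion hG),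
      (GabberPairLib.bijective_Hpull A I (q + 1) G (RpushTorsLib.isTorsion_of_isLTorsion hG)).1⟩
  have hk : ∀ E : EtCoh.Ab X, CompBCLib.LKilled Set.univ E → ∀ r, CompBCLib.CmpAt i q E r := fun E hE r => by
    obtain ⟨-, m, hm, hEm⟩ := hE
    exact CompBCLib.cmpAt_killed (GabberPairLib.quotMap A I) f i t h.w hm hj
      (fun G hG j _ => PBCLib.bcAll_of_proper f (GabberPairLib.quotMap A I) t i h G
        (RpushTorsLib.isTorsion_of_isLTorsion (CompBCLib.isLTorsion_of_killedBy hm hG)) j) r E hEm
  have hb := (CompBCLib.compN_of_cmpAt i hk F (RpushTorsLib.isLTorsion_univ hF)).1 q le_rfl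
  have e : ⇑(EtCore.Hpull i F q) = ⇑(EtLim.HofPush i ((EtCoh.pull i).obj F) q) ∘
      ⇑(Sheaf.H.map ((EtCoh.pullPushAdj i).unit.app F) q) :=
    funext fun x => AcycCompLib.Hpull_eq_HofPush_unit i q F x
  rw [e] at hb
  exact (Function.Bijective.of_comp_iff' ((AcycCompLib.bijective_HofPush i _ q q fun p hp _ =>
    Groth.Agent.S3054.result i _ p hp).1 le_rfl) _).1 hb

end Groth.Agent.CoupleBaseLib
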