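import Groth.Agent.S17971
import Groth.Agent.H9HensCouple
import Groth.Agent.RegSeqSlice.BaseChange

/-!
# The base of a henselian couple

A scheme proper over `A` forming a henselian couple with its part over `A / I` is proper and surjective
over the quotient `A'` of `A` by the kernel of its global functions, and `(A', I A')` is a henselian
pair: open-closed subsets descend along proper surjections, and closed subsets missing the special
part are empty.
-/

set_option autoImplicit false
set_option linter.style.haveILetI false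
set_option backward.isDefEq.respectTransparency false
set_option backward.isDefEq.respectTransparency.types false
set_option maxHeartbeats 1000000

universe u

open CategoryTheory CategoryTheory.Limits AlgebraicGeometry Opposite

noncomputable section

namespace Groth.Agent.CoupleBaseLib

open H9HensCouple

/-- Open-closed subsets descend along a closed surjection compatible with two special parts. -/
theorem existsUnique_clopen_descend {X X₀ Z Z₀ W : Scheme.{u}} {i : X₀ ⟶ X} (hX : Lifts i) (p : W ⟶ X) [IsFinite p]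
    (q : W ⟶ Z) (hq : IsClosedMap q) (hsurj : Function.Surjective q) (e : Z₀ ⟶ Z) [IsClosedImmersion e]
    [IsClosedImmersion i] (hR : Set.range (pullback.fst p i) = q ⁻¹' Set.range e) (V : Set Z₀) (hV : IsClopen V) :
    ∃! U : Set Z, IsClopen U ∧ e ⁻¹' U = V := by
  let k := pullback.fst p i
  have he := e.isClosedEmbedding
  let V' : Set ↥(pullback p i) := k ⁻¹' (q ⁻¹' (e '' V))
  have hmem : ∀ w, ∃ z, q (k w) = e z := fun w => by
    obtain ⟨z, hz⟩ : k w ∈ q ⁻¹' Set.range e := hR.le ⟨w, rfl⟩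
    exact ⟨z, hz.symm⟩
  have hVcl : IsClosed V' := ((he.isClosedMap _ hV.1).preimage q.continuous).preimage k.continuous
  have hcompl : V'ᶜ = k ⁻¹' (q ⁻¹' (e '' Vᶜ)) := by
    ext w
    obtain ⟨z, hz⟩ := hmem w
    show ¬ (q (k w) ∈ e '' V) ↔ q (k w) ∈ e '' Vᶜ
    rw [hz, he.injective.mem_set_image, he.injective.mem_set_image]
    rfl
  have hV' : IsClopen V' := ⟨hVcl, isClosed_compl_iff.1
    (hcompl ▸ ((he.isClosedMap _ hV.2.isClosed_compl).preimage q.continuous).preimage k.continuous)⟩
  obtain ⟨U, ⟨hU, hUV⟩, huniq⟩ := hX W p inferInstance V' hV'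
  have hin : ∀ w : W, ∀ z : Z₀, q w = e z → (w ∈ U ↔ z ∈ V) := fun w z hz => by
    obtain ⟨w₀, rfl⟩ : w ∈ Set.range k := hR.ge ⟨z, hz.symm⟩
    refine (Iff.of_eq (congrArg (w₀ ∈ ·) hUV)).trans ?_
    show q (k w₀) ∈ e '' V ↔ _
    rw [hz, he.injective.mem_set_image]
  have hC : q '' U ∩ q '' Uᶜ = ∅ := by
    have h0 : q ⁻¹' (q '' U ∩ q '' Uᶜ) = ∅ := by
      refine eq_empty' hX p p.isClosedMap
        (((hq _ hU.1).inter (hq _ hU.2.isClosed_compl)).preimage q.continuous) ?_
      rw [Set.disjoint_left]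
      rintro w ⟨⟨a, ha, ha'⟩, ⟨b, hb, hb'⟩⟩ hw
      obtain ⟨z, hz⟩ : w ∈ q ⁻¹' Set.range e := hR.le hw
      exact hb ((hin b z (hb'.trans hz.symm)).2 ((hin a z (ha'.trans hz.symm)).1 ha))
    rw [← Set.image_preimage_eq (q '' U ∩ q '' Uᶜ) hsurj, h0, Set.image_empty]
  have hcompl' : (q '' U)ᶜ = q '' Uᶜ := by
    ext z
    obtain ⟨w, rfl⟩ := hsurj z
    refine ⟨fun h => ⟨w, fun hw => h ⟨w, hw, rfl⟩, rfl⟩, fun h h' => ?_⟩
    exact (hC.le ⟨h', h⟩ : q w ∈ (∅ : Set Z))
  refine ⟨q '' U, ⟨⟨hq _ hU.1, isClosed_compl_iff.1 (hcompl' ▸ hq _ hU.2.isClosed_compl)⟩, ?_⟩, ?_⟩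
  · ext z
    refine ⟨fun ⟨w, hw, hz⟩ => (hin w z hz).1 hw, fun hz => ?_⟩
    obtain ⟨w, hw⟩ := hsurj (e z)
    exact ⟨w, (hin w z hw).2 hz, hw⟩
  · rintro U' ⟨hU', hU'V⟩
    rw [← huniq (q ⁻¹' U') ⟨hU'.preimage q.continuous, ?_⟩, Set.image_preimage_eq U' hsurj]
    ext w
    obtain ⟨z, hz⟩ := hmem w
    show q (k w) ∈ U' ↔ q (k w) ∈ e '' V
    rw [hz, he.injective.mem_set_image, ← hU'V]
    rfl

/-- A morphism from a quasi-compact scheme given by an injective ring map has dense image. -/
theorem dense_range_toSpecΓ_comp {X : Scheme.{u}} [CompactSpace X] {R : Type u} [CommRing R] (ψ : R →+* Γ(X, ⊤))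
    (hψ : Function.Injective ψ) :
    Dense (Set.range (X.toSpecΓ ≫ Spec.map (CommRingCat.ofHom ψ))) := by
  refine PrimeSpectrum.isTopologicalBasis_basic_opens.dense_iff.2 ?_
  rintro _ ⟨a, rfl⟩ hne
  by_contra hd
  have hb : X.basicOpen (ψ a) = ⊥ := by
    rw [← Scheme.toSpecΓ_preimage_basicOpen]
    ext x
    refine ⟨fun hx => ?_, fun hx => hx.elim⟩
    exact hd ⟨(X.toSpecΓ ≫ Spec.map (CommRingCat.ofHom ψ)) x, hx, x, rfl⟩
  obtain ⟨m, hm⟩ := (Scheme.isNilpotent_iff_basicOpen_eq_bot (ψ a)).2 hb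
  rw [← map_pow, ← map_zero ψ] at hm
  obtain ⟨y, hy⟩ := hne
  have h2 : y ∈ PrimeSpectrum.basicOpen a := hy
  rw [(PrimeSpectrum.basicOpen_eq_bot_iff a).2 ⟨m, hψ hm⟩] at h2
  exact h2

/-- The pair underlying a henselian couple. -/
theorem exists_pair {A : Type u} [CommRing A] [IsNoetherianRing A] (I : Ideal A) {X : Scheme.{u}}
    (f : X ⟶ Spec (CommRingCat.of A)) [IsProper f]
    (hX : Lifts (pullback.fst f (Spec.map (CommRingCat.ofHom (Ideal.Quotient.mk I))))) :
    ∃ (A' : Type u) (_ : CommRing A') (I' : Ideal A') (_ : HenselianRing A' I') (_ : IsNoetherianRing A')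
      (f' : X ⟶ Spec (CommRingCat.of A')) (_ : IsProper f')
      (t : pullback f (Spec.map (CommRingCat.ofHom (Ideal.Quotient.mk I))) ⟶ Spec (CommRingCat.of (A' ⧸ I'))),
      IsPullback (pullback.fst f (Spec.map (CommRingCat.ofHom (Ideal.Quotient.mk I)))) t f'
        (Spec.map (CommRingCat.ofHom (Ideal.Quotient.mk I'))) := by
  let i₀ := Spec.map (CommRingCat.ofHom (Ideal.Quotient.mk I))
  haveI : IsClosedImmersion i₀ := IsClosedImmersion.spec_of_surjective _ Ideal.Quotient.mk_surjective
  haveI : IsClosedImmersion (pullback.fst f i₀) := MorphismProperty.pullback_fst _ _ inferInstance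
  haveI : CompactSpace ↥X := QuasiCompact.compactSpace_of_compactSpace f
  let φ : A →+* Γ(X, ⊤) := ((Scheme.ΓSpecIso (CommRingCat.of A)).inv ≫ f.appTop).hom
  let A' : Type u := A ⧸ RingHom.ker φ
  let π : A →+* A' := Ideal.Quotient.mk _
  let f' : X ⟶ Spec (CommRingCat.of A') := X.toSpecΓ ≫ Spec.map (CommRingCat.ofHom (RingHom.kerLift φ))
  let b := Spec.map (CommRingCat.ofHom π)
  have hf : f' ≫ b = f := by
    show (X.toSpecΓ ≫ Spec.map _) ≫ Spec.map _ = f
    rw [Category.assoc, ← Spec.map_comp]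
    have hc : CommRingCat.ofHom π ≫ CommRingCat.ofHom (RingHom.kerLift φ) =
        (Scheme.ΓSpecIso (CommRingCat.of A)).inv ≫ f.appTop := CommRingCat.hom_ext (RingHom.ext fun _ => rfl)
    rw [hc, Spec.map_comp, ← Scheme.toSpecΓ_naturality_assoc, ← SpecMap_ΓSpecIso_hom, ← Spec.map_comp,
      Iso.inv_hom_id, Spec.map_id, Category.comp_id]
  haveI : IsClosedImmersion b := IsClosedImmersion.spec_of_surjective _ Ideal.Quotient.mk_surjective
  haveI : IsProper f' := by
    haveI : IsProper (f' ≫ b) := hf ▸ inferInstance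
    exact MorphismProperty.of_postcomp (W := @IsProper) (W' := @IsSeparated) f' b inferInstance inferInstance
  haveI : Surjective f' := ⟨Set.range_eq_univ.1 (f'.isClosedMap.isClosed_range.closure_eq.symm.trans
    (dense_range_toSpecΓ_comp (RingHom.kerLift φ) (RingHom.kerLift_injective φ)).closure_eq)⟩
  let I' : Ideal A' := I.map π
  let i' := Spec.map (CommRingCat.ofHom (Ideal.Quotient.mk I'))
  letI : Algebra A A' := π.toAlgebra
  obtain ⟨m, hm⟩ := RegSeqSlice.isPullback_spec_quot (B := A) (B' := A') I I' rfl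
  have hm' : IsPullback i' m b i₀ := hm
  haveI : IsClosedImmersion i' := IsClosedImmersion.spec_of_surjective _ Ideal.Quotient.mk_surjective
  have hri : Set.range i' = b ⁻¹' Set.range i₀ := by
    rw [← hm'.isoPullback_hom_fst]
    haveI : Surjective hm'.isoPullback.hom := inferInstance
    rw [← Scheme.Pullback.range_fst]
    exact (Function.Surjective.range_comp hm'.isoPullback.hom.surjective _)
  have hA' : HenselianRing A' I' := by
    refine (Groth.Agent.S17971.result A' I').2 fun Z g hg V hV => ?_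
    haveI := hg
    let p := pullback.snd g f'
    let q := pullback.fst g f'
    haveI : IsFinite p := MorphismProperty.pullback_snd _ _ hg
    haveI : Surjective q := MorphismProperty.pullback_fst _ _ inferInstance
    haveI : IsProper q := MorphismProperty.pullback_fst _ _ inferInstance
    haveI : IsClosedImmersion (pullback.fst g i') := MorphismProperty.pullback_fst _ _ inferInstance
    refine existsUnique_clopen_descend hX p q q.isClosedMap q.surjective (pullback.fst g i') ?_ V hV
    rw [Scheme.Pullback.range_fst, Scheme.Pullback.range_fst, Scheme.Pullback.range_fst, hri]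
    ext w
    show f (p w) ∈ Set.range i₀ ↔ b (g (q w)) ∈ Set.range i₀
    rw [← Scheme.Hom.comp_apply q g, pullback.condition, Scheme.Hom.comp_apply, ← Scheme.Hom.comp_apply f' b, hf]
  haveI : IsNoetherianRing A' := inferInstanceAs (IsNoetherianRing (A ⧸ RingHom.ker φ))
  let t : pullback f i₀ ⟶ Spec (CommRingCat.of (A' ⧸ I')) := hm'.lift (pullback.fst f i₀ ≫ f') (pullback.snd f i₀)
    (by rw [Category.assoc, hf, pullback.condition])
  refine ⟨A', inferInstance, I', hA', inferInstance, f', inferInstance, t, IsPullback.of_bot ?_ ?_ hm'⟩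
  · rw [hm'.lift_snd, hf]
    exact IsPullback.of_hasPullback f i₀
  · exact (hm'.lift_fst _ _ _).symm

end Groth.Agent.CoupleBaseLib
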